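import Groth.Agent.S16572
import Mathlib.AlgebraicGeometry.Morphisms.Etale
import Mathlib.AlgebraicGeometry.Morphisms.QuasiSeparated
import Mathlib.AlgebraicGeometry.Limits
import Mathlib.AlgebraicGeometry.ResidueField

/-!
# Affine covers with algebraically closed residue fields
-/

set_option autoImplicit false

universe u

open CategoryTheory CategoryTheory.Limits AlgebraicGeometry TopologicalSpace

namespace Groth.Agent.ResFieldCover

set_option backward.isDefEq.respectTransparency.types false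

theorem spec_residueFieldMap {A T : CommRingCat.{u}} (ψ : A ⟶ T) (q : Spec T) :
    (Spec.map ψ).residueFieldMap q = (Scheme.Spec.residueFieldIso A (Spec.map ψ q)).hom ≫
      CommRingCat.ofHom (Ideal.ResidueField.map (Spec.map ψ q).asIdeal q.asIdeal ψ.hom rfl) ≫
      (Scheme.Spec.residueFieldIso T q).inv := by
  rw [← Iso.inv_comp_eq]
  apply CommRingCat.hom_ext
  refine Ideal.ResidueField.ringHom_ext ?_
  have h : CommRingCat.ofHom (algebraMap A (Spec.map ψ q).asIdeal.ResidueField) ≫
      (Scheme.Spec.residueFieldIso A (Spec.map ψ q)).inv ≫ (Spec.map ψ).residueFieldMap q =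
      ψ ≫ CommRingCat.ofHom (algebraMap T q.asIdeal.ResidueField) ≫ (Scheme.Spec.residueFieldIso T q).inv := by
    rw [Scheme.Spec.algebraMap_residueFieldIso_inv_assoc, Scheme.residue_residueFieldMap,
      Scheme.Hom.germ_stalkMap_assoc, Scheme.Spec.algebraMap_residueFieldIso_inv,
      ]
    exact (Scheme.ΓSpecIso_inv_naturality_assoc ψ _).symm
  refine (congrArg CommRingCat.Hom.hom h).trans ?_
  ext a
  simp only [CommRingCat.hom_comp, RingHom.comp_apply, CommRingCat.hom_ofHom, Ideal.ResidueField.map_algebraMap]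

theorem exists_cover (X : Scheme.{u}) [CompactSpace X] [QuasiSeparatedSpace X] :
    ∃ (X' : Scheme.{u}) (f : X' ⟶ X), IsAffine X' ∧ QuasiCompact f ∧ Surjective f ∧
      ∀ x' : X', IsAlgClosed (X'.residueField x') ∧ (f.residueFieldMap x').hom.IsIntegral := by
  let 𝒰 := X.affineCover.finiteSubcover
  let X₀ : Scheme.{u} := ∐ fun i : 𝒰.I₀ => 𝒰.X i
  have : ∀ i, IsAffine (𝒰.X i) := fun i => by dsimp [𝒰]; infer_instance
  have : IsAffine X₀ := inferInstance
  let f₀ : X₀ ⟶ X := Sigma.desc fun i => 𝒰.f i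
  have : AlgebraicGeometry.Etale f₀ :=
    IsZariskiLocalAtSource.sigmaDesc (P := @AlgebraicGeometry.Etale) fun i => inferInstance
  let A : CommRingCat.{u} := Γ(X₀, ⊤)
  let J : Ideal (MvPolynomial {P : Polynomial A // P.Monic ∧ 0 < P.natDegree} A) :=
    Ideal.span (Set.range fun P : {P : Polynomial A // P.Monic ∧ 0 < P.natDegree} =>
      Polynomial.aeval (MvPolynomial.X (R := A) P) P.1)
  let T : CommRingCat.{u} := CommRingCat.of (MvPolynomial {P : Polynomial A // P.Monic ∧ 0 < P.natDegree} A ⧸ J)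
  obtain ⟨hsurj, hres⟩ := Groth.Agent.S16572.result A
  let ψ : A ⟶ T := CommRingCat.ofHom (algebraMap A (MvPolynomial {P : Polynomial A // P.Monic ∧ 0 < P.natDegree} A ⧸ J))
  let f₁ : Spec T ⟶ Spec A := Spec.map ψ
  have : Surjective f₁ := ⟨hsurj⟩
  have : Surjective f₀ := ⟨fun x => by
    obtain ⟨i, y, hy⟩ := 𝒰.exists_eq x
    refine ⟨Sigma.ι (fun i : 𝒰.I₀ => 𝒰.X i) i y, ?_⟩
    rw [← Scheme.Hom.comp_apply, Sigma.ι_desc]
    exact hy⟩
  refine ⟨Spec T, f₁ ≫ X₀.isoSpec.inv ≫ f₀, inferInstance, inferInstance, inferInstance, fun q => ?_⟩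
  have he := (hres q.asIdeal)
  refine ⟨?_, ?_⟩
  · have := he.1
    exact IsAlgClosed.of_ringEquiv q.asIdeal.ResidueField _
      (Scheme.Spec.residueFieldIso T q).symm.commRingCatIsoToRingEquiv
  · rw [Scheme.residueFieldMap_comp]
    refine RingHom.IsIntegral.trans _ _ ?_ ?_
    · algebraize [((X₀.isoSpec.inv ≫ f₀).residueFieldMap (f₁ q)).hom]
      have : Algebra.IsSeparable (X.residueField ((X₀.isoSpec.inv ≫ f₀) (f₁ q))) ((Spec A).residueField (f₁ q)) :=
        inferInstance
      exact fun y => (Algebra.IsSeparable.isSeparable (X.residueField ((X₀.isoSpec.inv ≫ f₀) (f₁ q))) y).isIntegral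
    · rw [spec_residueFieldMap]
      refine RingHom.IsIntegral.trans _ _ (RingHom.isIntegral_of_surjective _ ?_)
        (RingHom.IsIntegral.trans _ _ he.2 (RingHom.isIntegral_of_surjective _ ?_))
      · exact (Scheme.Spec.residueFieldIso A (f₁ q)).commRingCatIsoToRingEquiv.surjective
      · exact (Scheme.Spec.residueFieldIso T q).symm.commRingCatIsoToRingEquiv.surjective

end Groth.Agent.ResFieldCover
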